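import Groth.Agent.Pos60.Cones
import Groth.Agent.Var76.Bigness

/-!
Bigness and growth of sections.
-/

set_option autoImplicit false
set_option backward.isDefEq.respectTransparency.types false

universe u

open CategoryTheory CategoryTheory.Limits AlgebraicGeometry

noncomputable section

namespace Groth.Agent.Pos60

open H98Pos Var76.Growth

variable (k : Type u) [Field k] {X : Scheme.{u}} [X.Over (Spec (CommRingCat.of k))] [IsIntegral X]
  [IsProper (X ↘ Spec (CommRingCat.of k))]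

omit k [Field k] [X.Over (Spec (CommRingCat.of k))] [IsProper (X ↘ Spec (CommRingCat.of k))] in
theorem exists_mono_of_hasSec {A I M : X.Modules} (hA : PicF.IsInvertible A) (hI : PicF.IsInvertible I)
    (hM : PicF.IsInvertible M) (ε : CohB1.tensorMod I A ≅ Coh.structureModule X)
    (h : HasSec (CohB1.tensorMod I M)) : ∃ φ : A ⟶ M, Mono φ := by
  obtain ⟨s, hs⟩ := h
  have h2 := tensMap_ne_zero EGA73.isInvertible_structureModule (EGA73.isInvertible_tensorMod hI hM) hA hs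
  let r : CohB1.tensorMod (CohB1.tensorMod I M) A ≅ M :=
    EGA73.tensIso (EGA73.tensComm I _) (Iso.refl A) ≪≫ EGA73.tensAssoc' _ I A ≪≫
      EGA73.tensIso (Iso.refl _) ε ≪≫ EGA73.tensUnitRight _
  refine ⟨(EGA73.tensUnitLeft A).inv ≫ tensMap s A ≫ r.hom, mono_of_ne_zero hA hM _ fun h0 => h2 ?_⟩
  exact (cancel_mono r.hom).1
    (((cancel_epi (EGA73.tensUnitLeft A).inv).1 (h0.trans comp_zero.symm)).trans zero_comp.symm)

omit k [Field k] [X.Over (Spec (CommRingCat.of k))] [IsProper (X ↘ Spec (CommRingCat.of k))] in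
theorem hasSec_of_mono {A A' M : X.Modules} (hA : CohB1.IsAmple A) (hA' : ClSub.IsInverseOf A' A)
    (hM : PicF.IsInvertible M) {φ : A ⟶ M} [Mono φ] : HasSec (CohB1.tensorMod A' M) := by
  obtain ⟨ε₀⟩ := hA'
  obtain ⟨I, hI, ⟨ε⟩⟩ := An92.InvMod.exists_inverse hA.1
  let e : I ≅ A' := (EGA73.tensUnitLeft I).symm ≪≫ EGA73.tensIso ε₀.symm (Iso.refl I) ≪≫
    EGA73.tensAssoc' A' A I ≪≫ EGA73.tensIso (Iso.refl A') (EGA73.tensComm A I ≪≫ ε) ≪≫ EGA73.tensUnitRight A'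
  have hφ0 : φ ≠ 0 := fun h0 =>
    id_ne_zero hA.1 ((cancel_mono φ).1 (by rw [h0, comp_zero, comp_zero]))
  let ε' : CohB1.tensorMod A I ≅ Coh.structureModule X := EGA73.tensComm A I ≪≫ ε
  refine HasSec.of_mono (f := (EGA73.tensComm M I ≪≫ EGA73.tensIso e (Iso.refl M)).hom)
    ⟨ε'.inv ≫ tensMap φ I, fun h0 => ?_⟩
  exact tensMap_ne_zero hA.1 hM hI hφ0 ((cancel_epi ε'.inv).1 (h0.trans comp_zero.symm))

/-- Bigness is maximal growth of sections. -/
theorem big_iff_growth {H L : X.Modules} (hH : CohB1.IsAmple H) (hL : PicF.IsInvertible L) {n : ℕ}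
    (hn : topologicalKrullDim X = (n : WithBot ℕ∞)) :
    (∀ A : X.Modules, CohB1.IsAmple A → ∃ (m : ℕ) (φ : A ⟶ CohB1.tensorPow L m), 0 < m ∧ Mono φ) ↔
      ∃ C : ℝ, 0 < C ∧ ∃ m₁ : ℕ, ∀ m : ℕ, m₁ ≤ m →
        C * (m : ℝ) ^ n ≤ (Module.finrank k (Coh.HH X (CohB1.tensorPow L m) 0) : ℝ) := by
  constructor
  · intro h
    obtain ⟨c, hc, hev⟩ := big_of_forall k hL hH hn fun A A' hA hA' => by
      obtain ⟨m, φ, hm, hφ⟩ := h A hA
      exact ⟨m, hm, nontrivial_HH_zero (hasSec_of_mono hA hA' (EGA73.isInvertible_tensorPow hL m) (φ := φ))⟩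
    obtain ⟨m₁, hm₁⟩ := Filter.eventually_atTop.1 hev
    exact ⟨c, hc, m₁, fun m hm => (hm₁ m hm).le⟩
  · rintro ⟨C, hC, m₁, h⟩ A hA
    have hb : BigFreq (hp k L) n := bigFreq_of_eventually ⟨C / 2, half_pos hC,
      Filter.eventually_atTop.2 ⟨m₁ + 1, fun m hm => lt_of_lt_of_le (by
        have : (0 : ℝ) < (m : ℝ) ^ n := pow_pos (Nat.cast_pos.2 (by omega)) n
        nlinarith) (h m (by omega))⟩⟩
    obtain ⟨I, hI, ⟨ε⟩⟩ := An92.InvMod.exists_inverse hA.1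
    obtain ⟨m, hm, hm'⟩ := kodaira_ample k hL hn.le hb hA ⟨ε⟩
    obtain ⟨φ, hφ⟩ := exists_mono_of_hasSec hA.1 hI (EGA73.isInvertible_tensorPow hL m) ε
      (hasSec_of_nontrivial hm')
    exact ⟨m, φ, hm, hφ⟩

end Groth.Agent.Pos60
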