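import Groth.Prelude.Def_NumR
import Groth.Agent.H98Pos.Big
import Groth.Agent.VB30.Stalk
import Groth.Agent.Mero90.Frames
import Mathlib.LinearAlgebra.Dimension.Free
import Mathlib.LinearAlgebra.FreeModule.Finite.Basic

/-!
The ample, big and effective cones in `N¹(X)_ℝ`.
-/

set_option autoImplicit false
set_option backward.isDefEq.respectTransparency.types false

universe u

open CategoryTheory CategoryTheory.Limits AlgebraicGeometry TopologicalSpace Opposite

noncomputable section

namespace Groth.Agent.Pos60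

open H98Pos Amp73 Var76.LineBundle Var76.ZeroScheme

variable {k : Type u} [Field k] {X : Scheme.{u}} [X.Over (Spec (CommRingCat.of k))] [PicGrp.Law X]

variable {L M : X.Modules}

theorem clR_congr (hL : PicF.IsInvertible L) (hM : PicF.IsInvertible M) (e : L ≅ M) :
    NumR.clR k X L hL = NumR.clR k X M hM := by
  unfold NumR.clR NumR.cl
  rw [(PicGrp.cls_eq_cls_iff hL hM).2 ⟨e⟩]

theorem clR_tensor (hL : PicF.IsInvertible L) (hM : PicF.IsInvertible M)
    (h : PicF.IsInvertible (CohB1.tensorMod L M)) :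
    NumR.clR k X (CohB1.tensorMod L M) h = NumR.clR k X L hL + NumR.clR k X M hM := by
  unfold NumR.clR NumR.cl
  have : PicGrp.cls (CohB1.tensorMod L M) h = PicGrp.cls L hL * PicGrp.cls M hM :=
    Subtype.ext (PicGrp.cls_mul_cls_val hL hM).symm
  rw [this, ofMul_mul, map_add, map_add]

theorem clR_unit : NumR.clR k X (Coh.structureModule X) EGA73.isInvertible_structureModule = 0 := by
  unfold NumR.clR NumR.cl
  rw [show PicGrp.cls (Coh.structureModule X) EGA73.isInvertible_structureModule = 1 from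
    PicGrp.cls_structureModule_eq_one, ofMul_one, map_zero, map_zero]

theorem clR_pow (hL : PicF.IsInvertible L) : ∀ (n : ℕ) (h : PicF.IsInvertible (CohB1.tensorPow L n)),
    NumR.clR k X (CohB1.tensorPow L n) h = (n : ℝ) • NumR.clR k X L hL
  | 0, _ => by rw [Nat.cast_zero, zero_smul]; exact clR_unit
  | n + 1, h => by
    rw [Nat.cast_succ, add_smul, one_smul, ← clR_pow hL n (EGA73.isInvertible_tensorPow hL n)]
    exact clR_tensor _ _ _

theorem clR_inverse {I : X.Modules} (hL : PicF.IsInvertible L) (hI : PicF.IsInvertible I)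
    (e : CohB1.tensorMod I L ≅ Coh.structureModule X) : NumR.clR k X I hI = -NumR.clR k X L hL := by
  rw [eq_neg_iff_add_eq_zero, ← clR_tensor hI hL (EGA73.isInvertible_tensorMod hI hL)]
  exact (clR_congr _ _ e).trans clR_unit

section Sections

variable [IsIntegral X]

omit [X.Over (Spec (CommRingCat.of k))] [PicGrp.Law X] in
theorem hasSec_unit : HasSec (Coh.structureModule X) :=
  ⟨𝟙 _, ne_zero_of_mem_genLocus (x := genericPoint X) (by rw [genLocus_id]; trivial)⟩

omit [X.Over (Spec (CommRingCat.of k))] [PicGrp.Law X] in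
theorem hasSec_pow (hL : PicF.IsInvertible L) (h : HasSec L) : ∀ n, HasSec (CohB1.tensorPow L n)
  | 0 => hasSec_unit
  | n + 1 => (hasSec_pow hL h n).tensor (EGA73.isInvertible_tensorPow hL n) hL h

omit [X.Over (Spec (CommRingCat.of k))] [PicGrp.Law X] in
theorem exists_hasSec_twist {A : X.Modules} (hA : CohB1.IsAmple A) (hM : PicF.IsInvertible M) :
    ∃ n₀ : ℕ, ∀ n, n₀ ≤ n → HasSec (CohB1.tensorMod M (CohB1.tensorPow A n)) := by
  obtain ⟨n₀, h⟩ := exists_covering_twist hA hM
  refine ⟨n₀, fun n hn => ?_⟩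
  obtain ⟨s, hs⟩ := h n hn (genericPoint X)
  exact ⟨s, ne_zero_of_mem_genLocus hs⟩

omit [X.Over (Spec (CommRingCat.of k))] [PicGrp.Law X] in
theorem id_ne_zero (hL : PicF.IsInvertible L) : 𝟙 L ≠ 0 := by
  intro h0
  obtain ⟨W, hxW, -, e, he⟩ := Mero90.exists_affine_frame hL (genericPoint X) ⊤ trivial
  have he0 : e = 0 := congr($(congrArg (fun φ => Scheme.Modules.Hom.app φ W.1) h0) e)
  have hne : Nonempty W.1 := ⟨⟨_, hxW⟩⟩
  have : Nontrivial Γ(X, W.1) := inferInstance
  refine one_ne_zero (α := Γ(X, W.1)) ((he W.1 le_rfl).1 ?_)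
  dsimp only
  rw [res_self, he0, smul_zero, smul_zero]

omit [X.Over (Spec (CommRingCat.of k))] [PicGrp.Law X] in
/-- A nonzero morphism of invertible modules on an integral scheme is a monomorphism. -/
theorem mono_of_ne_zero (hL : PicF.IsInvertible L) (hM : PicF.IsInvertible M) (σ : L ⟶ M) (hσ : σ ≠ 0) :
    Mono σ := by
  have hr := Mero90.isFinLocFreeOfRank_of_isInvertible hL
  have hTL : VB30.IsTF L := VB30.isTF_of_isFinLocFree (VB30.isFinLocFree_of_rank hr)
  have hTM : VB30.IsTF M :=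
    VB30.isTF_of_isFinLocFree (VB30.isFinLocFree_of_rank (Mero90.isFinLocFreeOfRank_of_isInvertible hM))
  have hz : ∀ {A E : X.Modules} (ψ : A ⟶ E), VB30.IsTF E → (∀ e, VB30.gmap ψ e = 0) → ψ = 0 := by
    intro A E ψ hE hA
    refine Scheme.Modules.hom_ext _ _ fun U => ?_
    ext s
    refine QC70.section_ext _ _ 0 fun x hx => ?_
    have h0 : QC70.germM E U x hx (ψ.app U s) = 0 := hE x (by
      rw [← QC70.stalkMapM_germ ψ hx s, VB30.toGen_stalkMapM, map_zero]
      exact hA _)
    obtain ⟨W, hW, hxW, e⟩ := QC70.germM_eq_zero h0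
    exact ⟨W, hW, hxW, e.trans (map_zero _).symm⟩
  have hinj : Function.Injective (VB30.gmap σ) := by
    have := Amp73.isFiniteType_of_isInvertible hL
    have : Module.Finite X.functionField (VB30.gst L) := VB30.finite_gst L
    have hne : LinearMap.ker (VB30.gmap σ) ≠ ⊤ := fun h => hσ <| hz σ hTM fun e =>
      LinearMap.mem_ker.1 (h ▸ Submodule.mem_top)
    have h1 := Submodule.finrank_lt hne
    have h2 : Module.finrank X.functionField (VB30.gst L) = 1 := VB30.rk_eq_of_isFinLocFreeOfRank hr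
    rw [h2, Nat.lt_one_iff] at h1
    exact LinearMap.ker_eq_bot.1 (Submodule.finrank_eq_zero.1 h1)
  refine Preadditive.mono_of_cancel_zero _ fun {P} g hg => hz g hTL fun e => hinj ?_
  obtain ⟨W, hW, s, rfl⟩ := QC70.germM_exist e
  rw [map_zero, VB30.gmap_apply, VB30.gmap_apply, QC70.stalkMapM_germ, QC70.stalkMapM_germ]
  refine (congrArg (QC70.germM M W _ hW) ?_).trans (QC70.germM_zero hW)
  exact congr($(congrArg (fun φ => Scheme.Modules.Hom.app φ W) hg) s)

/-- An ample module twisted by an effective one is big. -/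
theorem big_of_ample_tensor {A E : X.Modules} (hA : CohB1.IsAmple A) (hE : PicF.IsInvertible E)
    (hs : HasSec E) (A' : X.Modules) (hA' : CohB1.IsAmple A') :
    ∃ (m : ℕ) (φ : A' ⟶ CohB1.tensorPow (CohB1.tensorMod A E) m), 0 < m ∧ Mono φ := by
  obtain ⟨I, hI, ⟨ε⟩⟩ := An92.InvMod.exists_inverse hA'.1
  obtain ⟨n₀, h₀⟩ := exists_hasSec_twist hA hI
  let m := n₀ + 1
  let L := CohB1.tensorMod A E
  have hL : PicF.IsInvertible L := EGA73.isInvertible_tensorMod hA.1 hE
  have hLm := EGA73.isInvertible_tensorPow hL m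
  have hAm := EGA73.isInvertible_tensorPow hA.1 m
  have hEm := EGA73.isInvertible_tensorPow hE m
  have h1 : HasSec (CohB1.tensorMod I (CohB1.tensorPow L m)) :=
    HasSec.of_mono (f := (EGA73.tensAssoc' I _ _ ≪≫ EGA73.tensIso (Iso.refl I) (powTens A E m).symm).hom)
      ((h₀ m (Nat.le_succ _)).tensor (EGA73.isInvertible_tensorMod hI hAm) hEm (hasSec_pow hE hs m))
  obtain ⟨s, hs⟩ := h1
  have h2 := tensMap_ne_zero EGA73.isInvertible_structureModule (EGA73.isInvertible_tensorMod hI hLm) hA'.1 hs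
  let r : CohB1.tensorMod (CohB1.tensorMod I (CohB1.tensorPow L m)) A' ≅ CohB1.tensorPow L m :=
    EGA73.tensIso (EGA73.tensComm I _) (Iso.refl A') ≪≫ EGA73.tensAssoc' _ I A' ≪≫
      EGA73.tensIso (Iso.refl _) ε ≪≫ EGA73.tensUnitRight _
  refine ⟨m, (EGA73.tensUnitLeft A').inv ≫ tensMap s A' ≫ r.hom, Nat.succ_pos _, ?_⟩
  refine mono_of_ne_zero hA'.1 hLm _ ?_
  intro h0
  have h5 : tensMap s A' ≫ r.hom = 0 := (cancel_epi (EGA73.tensUnitLeft A').inv).1 (h0.trans comp_zero.symm)
  exact h2 ((cancel_mono r.hom).1 (h5.trans zero_comp.symm))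

omit [X.Over (Spec (CommRingCat.of k))] [PicGrp.Law X] in
/-- A power of a big module is an ample module twisted by an effective one. -/
theorem exists_of_big {H : X.Modules} (hH : CohB1.IsAmple H) (hL : PicF.IsInvertible L)
    (hbig : ∀ A : X.Modules, CohB1.IsAmple A → ∃ (m : ℕ) (φ : A ⟶ CohB1.tensorPow L m), 0 < m ∧ Mono φ) :
    ∃ (m : ℕ) (E : X.Modules), 0 < m ∧ PicF.IsInvertible E ∧ HasSec E ∧
      Nonempty (CohB1.tensorMod H E ≅ CohB1.tensorPow L m) := by
  obtain ⟨m, φ, hm, hφ⟩ := hbig H hH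
  obtain ⟨I, hI, ⟨ε⟩⟩ := An92.InvMod.exists_inverse hH.1
  have hLm := EGA73.isInvertible_tensorPow hL m
  have hφ0 : φ ≠ 0 := fun h0 =>
    id_ne_zero hH.1 ((cancel_mono φ).1 (by rw [h0, comp_zero, comp_zero]))
  let ε' : CohB1.tensorMod H I ≅ Coh.structureModule X := EGA73.tensComm H I ≪≫ ε
  refine ⟨m, CohB1.tensorMod (CohB1.tensorPow L m) I, hm, EGA73.isInvertible_tensorMod hLm hI,
    ⟨ε'.inv ≫ tensMap φ I, fun h0 =>
      tensMap_ne_zero hH.1 hLm hI hφ0 ((cancel_epi ε'.inv).1 (h0.trans comp_zero.symm))⟩, ⟨?_⟩⟩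
  exact EGA73.tensComm H _ ≪≫ EGA73.tensAssoc' _ I H ≪≫ EGA73.tensIso (Iso.refl _) ε ≪≫
    EGA73.tensUnitRight _

end Sections

variable (k X)

/-- The big cone. -/
def bigCone : ConvexCone ℝ (NumR.N1R k X) :=
  NumR.coneOf k X fun L : X.Modules =>
    ∀ A : X.Modules, CohB1.IsAmple A → ∃ (m : ℕ) (φ : A ⟶ CohB1.tensorPow L m), 0 < m ∧ Mono φ

variable {k X}

theorem clR_mem_coneOf {P : X.Modules → Prop} (hL : PicF.IsInvertible L) (h : P L) :
    NumR.clR k X L hL ∈ NumR.coneOf k X P :=
  ConvexCone.subset_hull ⟨L, hL, h, rfl⟩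

theorem coneOf_le {P : X.Modules → Prop} {C : ConvexCone ℝ (NumR.N1R k X)}
    (h : ∀ (L : X.Modules) (hL : PicF.IsInvertible L), P L → NumR.clR k X L hL ∈ C) :
    NumR.coneOf k X P ≤ C :=
  ConvexCone.hull_min (by rintro _ ⟨L, hL, hP, rfl⟩; exact h L hL hP)

theorem zero_mem_effCone [IsIntegral X] : (0 : NumR.N1R k X) ∈ NumR.effCone k X := by
  rw [← clR_unit (k := k) (X := X)]
  exact clR_mem_coneOf _ hasSec_unit

variable (k X) in
/-- The set of sums of an ample and an effective class. -/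
def ampAddEff : ConvexCone ℝ (NumR.N1R k X) where
  carrier := {x | ∃ a ∈ NumR.ampleCone k X, x - a ∈ NumR.effCone k X}
  smul_mem' c hc x := by
    rintro ⟨a, ha, he⟩
    exact ⟨c • a, (NumR.ampleCone k X).smul_mem hc ha, by rw [← smul_sub]; exact (NumR.effCone k X).smul_mem hc he⟩
  add_mem' x hx y hy := by
    obtain ⟨a, ha, he⟩ := hx
    obtain ⟨b, hb, hf⟩ := hy
    exact ⟨a + b, (NumR.ampleCone k X).add_mem ha hb,
      by rw [show x + y - (a + b) = (x - a) + (y - b) by abel]; exact (NumR.effCone k X).add_mem he hf⟩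

variable (k X) in
/-- Classes `e` with `a + t e` big for every ample `a` and `t > 0`. -/
def effRay (E : X.Modules) (hE : PicF.IsInvertible E) : ConvexCone ℝ (NumR.N1R k X) where
  carrier := {a | ∀ t : ℝ, 0 < t → a + t • NumR.clR k X E hE ∈ bigCone k X}
  smul_mem' c hc a ha t ht := by
    have := (bigCone k X).smul_mem hc (ha (t / c) (div_pos ht hc))
    rwa [smul_add, smul_smul, mul_div_cancel₀ _ hc.ne'] at this
  add_mem' a ha b hb t ht := by
    have := (bigCone k X).add_mem (ha (t / 2) (half_pos ht)) (hb (t / 2) (half_pos ht))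
    rwa [add_add_add_comm, ← add_smul, add_halves] at this

variable (k X) in
/-- Classes which added to an ample class give a big class. -/
def bigShift : ConvexCone ℝ (NumR.N1R k X) where
  carrier := {e | ∀ a ∈ NumR.ampleCone k X, a + e ∈ bigCone k X}
  smul_mem' c hc e he a ha := by
    have := (bigCone k X).smul_mem hc (he _ ((NumR.ampleCone k X).smul_mem (inv_pos.2 hc) ha))
    rwa [smul_add, smul_smul, mul_inv_cancel₀ hc.ne', one_smul] at this
  add_mem' e he f hf a ha := by
    have h2 : ((2 : ℝ)⁻¹ • a) ∈ NumR.ampleCone k X := (NumR.ampleCone k X).smul_mem (by norm_num) ha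
    have := (bigCone k X).add_mem (he _ h2) (hf _ h2)
    rwa [add_add_add_comm, ← add_smul, show (2 : ℝ)⁻¹ + 2⁻¹ = 1 by norm_num, one_smul] at this

variable [IsIntegral X]

theorem clR_add_mem_big {A E : X.Modules} (hA : CohB1.IsAmple A) (hE : PicF.IsInvertible E) (hs : HasSec E)
    (n : ℕ) : NumR.clR k X A hA.1 + (n : ℝ) • NumR.clR k X E hE ∈ bigCone k X := by
  have hEn := EGA73.isInvertible_tensorPow hE n
  rw [← clR_pow hE n hEn, ← clR_tensor hA.1 hEn (EGA73.isInvertible_tensorMod hA.1 hEn)]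
  exact clR_mem_coneOf _ fun A' hA' => big_of_ample_tensor hA hEn (hasSec_pow hE hs n) A' hA'

theorem ample_add_eff_mem_big {a e : NumR.N1R k X} (ha : a ∈ NumR.ampleCone k X)
    (he : e ∈ NumR.effCone k X) : a + e ∈ bigCone k X := by
  suffices h : NumR.effCone k X ≤ bigShift k X from h he a ha
  refine coneOf_le fun E hE hs => ?_
  intro a ha
  suffices h : NumR.ampleCone k X ≤ effRay k X E hE by simpa using h ha 1 one_pos
  refine coneOf_le fun A hA hAa => ?_
  intro t ht
  obtain ⟨n, hn⟩ := exists_nat_gt t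
  have hn0 : (0 : ℝ) < n := ht.trans hn
  have h1 := (bigCone k X).smul_mem (c := 1 - t / n) (by rw [sub_pos, div_lt_one hn0]; exact hn)
    (clR_add_mem_big (k := k) hAa hE hs 0)
  have h2 := (bigCone k X).smul_mem (div_pos ht hn0) (clR_add_mem_big (k := k) hAa hE hs n)
  have h3 := (bigCone k X).add_mem h1 h2
  rw [Nat.cast_zero, zero_smul, add_zero, smul_add, smul_smul, div_mul_cancel₀ _ hn0.ne', ← add_assoc,
    ← add_smul, sub_add_cancel, one_smul] at h3
  exact h3

theorem mem_bigCone_iff {H : X.Modules} (hH : CohB1.IsAmple H) {x : NumR.N1R k X} :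
    x ∈ bigCone k X ↔ ∃ a ∈ NumR.ampleCone k X, x - a ∈ NumR.effCone k X := by
  refine ⟨fun hx => ?_, fun ⟨a, ha, he⟩ => by simpa using ample_add_eff_mem_big ha he⟩
  suffices h : bigCone k X ≤ ampAddEff k X from h hx
  refine coneOf_le fun L hL hbig => ?_
  obtain ⟨m, E, hm, hE, hs, ⟨ι⟩⟩ := exists_of_big hH hL hbig
  have hm' : (0 : ℝ) < m := Nat.cast_pos.2 hm
  refine ⟨(m : ℝ)⁻¹ • NumR.clR k X H hH.1,
    (NumR.ampleCone k X).smul_mem (inv_pos.2 hm') (clR_mem_coneOf _ hH), ?_⟩
  have h : NumR.clR k X H hH.1 + NumR.clR k X E hE = (m : ℝ) • NumR.clR k X L hL := by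
    rw [← clR_pow hL m (EGA73.isInvertible_tensorPow hL m),
      ← clR_tensor hH.1 hE (EGA73.isInvertible_tensorMod hH.1 hE)]
    exact clR_congr _ _ ι
  have : NumR.clR k X L hL - (m : ℝ)⁻¹ • NumR.clR k X H hH.1 = (m : ℝ)⁻¹ • NumR.clR k X E hE := by
    rw [sub_eq_iff_eq_add', ← smul_add, h, smul_smul, inv_mul_cancel₀ hm'.ne', one_smul]
  rw [this]
  exact (NumR.effCone k X).smul_mem (inv_pos.2 hm') (clR_mem_coneOf _ hs)

theorem ampleCone_le_effCone : NumR.ampleCone k X ≤ NumR.effCone k X := by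
  refine coneOf_le fun A hA hAa => ?_
  obtain ⟨n₀, h⟩ := exists_hasSec_twist hAa (EGA73.isInvertible_structureModule (X := X))
  have hs : HasSec (CohB1.tensorPow A (n₀ + 1)) :=
    HasSec.of_mono (f := (EGA73.tensUnitLeft _).hom) (h _ (Nat.le_succ _))
  have h1 : NumR.clR k X _ (EGA73.isInvertible_tensorPow hA (n₀ + 1)) ∈ NumR.effCone k X := clR_mem_coneOf _ hs
  rw [clR_pow hA] at h1
  have := (NumR.effCone k X).smul_mem (c := ((n₀ + 1 : ℕ) : ℝ)⁻¹) (by positivity) h1
  rwa [smul_smul, inv_mul_cancel₀ (by positivity), one_smul] at this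

/-- An ample class stays ample after a small perturbation by a line bundle. -/
theorem exists_add_mem_ampleCone {A D : X.Modules} (hA : CohB1.IsAmple A) (hD : PicF.IsInvertible D) :
    ∃ n : ℕ, 0 < n ∧ (n : ℝ) • NumR.clR k X A hA.1 + NumR.clR k X D hD ∈ NumR.ampleCone k X := by
  obtain ⟨n₀, h⟩ := exists_covering_twist hA hD
  let n := n₀ + 1
  have hAn := EGA73.isInvertible_tensorPow hA.1 n
  have hDn := EGA73.isInvertible_tensorMod hD hAn
  have hB : CohB1.IsAmple (CohB1.tensorMod (CohB1.tensorPow A n) (CohB1.tensorMod D (CohB1.tensorPow A n))) :=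
    isAmple_tensor ((isAmple_tensorPow_iff hA.1 (Nat.succ_pos _)).1 hA) hDn fun y => by
      obtain ⟨s, hs⟩ := h n (Nat.le_succ _) y
      exact ⟨_, mem_genSet_one s, hs⟩
  refine ⟨n + n, Nat.add_pos_left (Nat.succ_pos _) _, ?_⟩
  have h1 : NumR.clR k X _ hB.1 ∈ NumR.ampleCone k X := clR_mem_coneOf _ hB
  rw [clR_tensor hAn hDn, clR_tensor hD hAn, clR_pow hA.1] at h1
  convert h1 using 1
  rw [Nat.cast_add, add_smul]
  abel

variable (k X) in
/-- The classes from which one can move in a given direction inside the ample cone. -/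
def dirCone (v : NumR.N1R k X) : ConvexCone ℝ (NumR.N1R k X) where
  carrier := {a | a ∈ NumR.ampleCone k X ∧ ∃ ε : ℝ, 0 < ε ∧ a + ε • v ∈ NumR.ampleCone k X}
  smul_mem' c hc a ha := by
    obtain ⟨ha, ε, hε, h⟩ := ha
    refine ⟨(NumR.ampleCone k X).smul_mem hc ha, c * ε, mul_pos hc hε, ?_⟩
    rw [mul_smul, ← smul_add]
    exact (NumR.ampleCone k X).smul_mem hc h
  add_mem' a ha b hb := by
    obtain ⟨ha, ε, hε, h⟩ := ha
    refine ⟨(NumR.ampleCone k X).add_mem ha hb.1, ε, hε, ?_⟩
    rw [add_right_comm]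
    exact (NumR.ampleCone k X).add_mem h hb.1

theorem exists_dir_clR {a : NumR.N1R k X} (ha : a ∈ NumR.ampleCone k X) {D : X.Modules}
    (hD : PicF.IsInvertible D) :
    ∃ ε : ℝ, 0 < ε ∧ a + ε • NumR.clR k X D hD ∈ NumR.ampleCone k X := by
  suffices h : NumR.ampleCone k X ≤ dirCone k X (NumR.clR k X D hD) from (h ha).2
  refine coneOf_le fun A hA hAa => ?_
  obtain ⟨n, hn, h⟩ := exists_add_mem_ampleCone (k := k) hAa hD
  have hn' : (0 : ℝ) < n := Nat.cast_pos.2 hn
  refine ⟨clR_mem_coneOf _ hAa, (n : ℝ)⁻¹, inv_pos.2 hn', ?_⟩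
  have := (NumR.ampleCone k X).smul_mem (inv_pos.2 hn') h
  rwa [smul_add, smul_smul, inv_mul_cancel₀ hn'.ne', one_smul] at this

theorem exists_dir {a : NumR.N1R k X} (ha : a ∈ NumR.ampleCone k X) (v : NumR.N1R k X) :
    ∃ ε : ℝ, 0 < ε ∧ a + ε • v ∈ NumR.ampleCone k X := by
  suffices h : (∃ ε : ℝ, 0 < ε ∧ a + ε • v ∈ NumR.ampleCone k X) ∧
      (∃ ε : ℝ, 0 < ε ∧ a + ε • (-v) ∈ NumR.ampleCone k X) from h.1
  have hv : v ∈ Submodule.span ℝ
      {x : NumR.N1R k X | ∃ (L : X.Modules) (hL : PicF.IsInvertible L), x = NumR.clR k X L hL} := by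
    rw [NumR.span_clR]; trivial
  have add : ∀ v w, (∃ ε : ℝ, 0 < ε ∧ a + ε • v ∈ NumR.ampleCone k X) →
      (∃ ε : ℝ, 0 < ε ∧ a + ε • w ∈ NumR.ampleCone k X) →
      ∃ ε : ℝ, 0 < ε ∧ a + ε • (v + w) ∈ NumR.ampleCone k X := by
    rintro v w ⟨ε, hε, h⟩ ⟨δ, hδ, h'⟩
    have hs : 0 < ε + δ := add_pos hε hδ
    refine ⟨ε * δ / (ε + δ), by positivity, ?_⟩
    have := (NumR.ampleCone k X).add_mem ((NumR.ampleCone k X).smul_mem (div_pos hδ hs) h)
      ((NumR.ampleCone k X).smul_mem (div_pos hε hs) h')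
    convert this using 1
    rw [smul_add, smul_add, smul_add, smul_smul, smul_smul,
      show δ / (ε + δ) * ε = ε * δ / (ε + δ) by ring, show ε / (ε + δ) * δ = ε * δ / (ε + δ) by ring,
      add_add_add_comm, ← add_smul, show δ / (ε + δ) + ε / (ε + δ) = 1 by field_simp; ring, one_smul]
  induction hv using Submodule.span_induction with
  | mem x hx =>
    obtain ⟨D, hD, rfl⟩ := hx
    obtain ⟨I, hI, ⟨ε⟩⟩ := An92.InvMod.exists_inverse hD
    rw [← clR_inverse hD hI ε]
    exact ⟨exists_dir_clR ha hD, exists_dir_clR ha hI⟩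
  | zero => exact ⟨⟨1, one_pos, by simpa using ha⟩, 1, one_pos, by simpa using ha⟩
  | add x y _ _ hx hy =>
    exact ⟨add x y hx.1 hy.1, by rw [neg_add]; exact add _ _ hx.2 hy.2⟩
  | smul c x _ hx =>
    rcases lt_trichotomy c 0 with hc | rfl | hc
    · obtain ⟨⟨ε, hε, h⟩, δ, hδ, h'⟩ := hx
      refine ⟨⟨δ / -c, div_pos hδ (neg_pos.2 hc), ?_⟩, ε / -c, div_pos hε (neg_pos.2 hc), ?_⟩
      · convert h' using 2
        rw [smul_smul, smul_neg, ← neg_smul]
        congr 1
        have := hc.ne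
        field_simp
      · convert h using 2
        rw [smul_neg, smul_smul, ← neg_smul]
        congr 1
        have := hc.ne
        field_simp
    · exact ⟨⟨1, one_pos, by simpa using ha⟩, 1, one_pos, by simpa using ha⟩
    · obtain ⟨⟨ε, hε, h⟩, δ, hδ, h'⟩ := hx
      refine ⟨⟨ε / c, div_pos hε hc, ?_⟩, δ / c, div_pos hδ hc, ?_⟩
      · rwa [smul_smul, div_mul_cancel₀ _ hc.ne']
      · rwa [← smul_neg, smul_smul, div_mul_cancel₀ _ hc.ne']

theorem isOpen_ampleCone [Module.Finite ℝ (NumR.N1R k X)] :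
    IsOpen (NumR.ampleCone k X : Set (NumR.N1R k X)) := by
  classical
  let b := Module.finBasis ℝ (NumR.N1R k X)
  refine isOpen_iff_mem_nhds.2 fun a ha => ?_
  choose εp hεp hp using fun i => exists_dir ha (b i)
  choose εm hεm hm using fun i => exists_dir ha (-b i)
  have step : ∀ s : Finset (Fin (Module.finrank ℝ (NumR.N1R k X))), ∀ (x : Fin _ → ℝ) (r : ℝ),
      (∑ i ∈ s, (max (x i) 0 / εp i + max (-x i) 0 / εm i)) < r →
      r • a + ∑ i ∈ s, x i • b i ∈ NumR.ampleCone k X := by
    intro s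
    induction s using Finset.induction_on with
    | empty =>
      intro x r hr
      simp only [Finset.sum_empty, add_zero] at hr ⊢
      exact (NumR.ampleCone k X).smul_mem hr ha
    | insert i s hi ih =>
      intro x r hr
      rw [Finset.sum_insert hi] at hr ⊢
      rcases lt_trichotomy (x i) 0 with h | h | h
      · rw [max_eq_right h.le, zero_div, zero_add, max_eq_left (neg_nonneg.2 h.le)] at hr
        have h1 := ih x (r - -x i / εm i) (by linarith)
        have h2 := (NumR.ampleCone k X).add_mem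
          ((NumR.ampleCone k X).smul_mem (div_pos (neg_pos.2 h) (hεm i)) (hm i)) h1
        convert h2 using 1
        rw [smul_add, smul_smul, div_mul_cancel₀ _ (hεm i).ne', sub_smul, neg_smul, smul_neg, neg_neg]
        abel
      · rw [h, zero_smul, zero_add]
        rw [h, neg_zero, max_self, zero_div, zero_div, zero_add, zero_add] at hr
        exact ih x r hr
      · rw [max_eq_left h.le, max_eq_right (neg_nonpos.2 h.le), zero_div, add_zero] at hr
        have h1 := ih x (r - x i / εp i) (by linarith)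
        have h2 := (NumR.ampleCone k X).add_mem
          ((NumR.ampleCone k X).smul_mem (div_pos h (hεp i)) (hp i)) h1
        convert h2 using 1
        rw [smul_add, smul_smul, div_mul_cancel₀ _ (hεp i).ne', sub_smul]
        abel
  let g : NumR.N1R k X → ℝ := fun y =>
    ∑ i, (max (b.coord i (y - a)) 0 / εp i + max (-b.coord i (y - a)) 0 / εm i)
  have hg : Continuous g := by
    refine continuous_finsetSum _ fun i _ => ?_
    have hc : Continuous fun y => b.coord i (y - a) := by
      refine ((IsModuleTopology.continuous_of_linearMap (b.coord i)).sub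
        (continuous_const (y := b.coord i a))).congr fun y => ?_
      exact (map_sub (b.coord i) y a).symm
    exact ((hc.max continuous_const).div_const _).add ((hc.neg.max continuous_const).div_const _)
  have hga : g a = 0 := by simp [g]
  refine Filter.mem_of_superset (hg.continuousAt (Iio_mem_nhds (hga ▸ one_pos))) fun y hy => ?_
  have := step Finset.univ (fun i => b.coord i (y - a)) 1 hy
  simpa only [one_smul, b.coord_apply, b.sum_repr, add_sub_cancel, SetLike.mem_coe] using this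

theorem bigCone_eq_interior_and_psefCone_eq_closure {H : X.Modules} (hH : CohB1.IsAmple H)
    [Module.Finite ℝ (NumR.N1R k X)] :
    (bigCone k X : Set (NumR.N1R k X)) = interior (NumR.psefCone k X) ∧
      NumR.psefCone k X = closure (bigCone k X : Set (NumR.N1R k X)) := by
  have hsub : (bigCone k X : Set (NumR.N1R k X)) ⊆ (NumR.effCone k X : Set (NumR.N1R k X)) := fun x hx => by
    obtain ⟨a, ha, he⟩ := (mem_bigCone_iff hH).1 hx
    simpa using (NumR.effCone k X).add_mem (ampleCone_le_effCone ha) he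
  have hopen : IsOpen (bigCone k X : Set (NumR.N1R k X)) := isOpen_iff_mem_nhds.2 fun x hx => by
    obtain ⟨a, ha, he⟩ := (mem_bigCone_iff hH).1 hx
    have hc : Continuous fun y : NumR.N1R k X => y + -(x - a) := continuous_id.add continuous_const
    refine Filter.mem_of_superset ((hc.isOpen_preimage _ isOpen_ampleCone).mem_nhds ?_) fun y hy => ?_
    · simpa [← sub_eq_add_neg] using ha
    · exact (mem_bigCone_iff hH).2 ⟨_, hy, by simpa [← sub_eq_add_neg] using he⟩
  let h := NumR.clR k X H hH.1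
  have hh : h ∈ NumR.ampleCone k X := clR_mem_coneOf _ hH
  refine ⟨Set.Subset.antisymm (interior_maximal (hsub.trans subset_closure) hopen) fun x hx => ?_, ?_⟩
  · have hc : Continuous fun t : ℝ => x + (-t) • h :=
      continuous_const.add (Continuous.smul (f := fun t : ℝ => -t) (g := fun _ => h) continuous_neg continuous_const)
    have h0 : (fun t : ℝ => x + (-t) • h) ⁻¹' interior (NumR.psefCone k X) ∈ nhds (0 : ℝ) :=
      (hc.isOpen_preimage _ isOpen_interior).mem_nhds (by simpa using hx)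
    obtain ⟨ε, hε, hball⟩ := Metric.mem_nhds_iff.1 h0
    have hy : x + (-(ε / 2)) • h ∈ NumR.psefCone k X :=
      interior_subset (hball (by simp [abs_of_pos hε, half_lt_self hε]))
    have hcs : Continuous fun e : NumR.N1R k X => x + (-1 : ℝ) • e :=
      continuous_const.add (Continuous.smul (f := fun _ : NumR.N1R k X => (-1 : ℝ)) (g := fun e => e) continuous_const continuous_id)
    obtain ⟨e, he', he⟩ := mem_closure_iff.1 hy _ (hcs.isOpen_preimage _ isOpen_ampleCone) (by
      have := (NumR.ampleCone k X).smul_mem (half_pos hε) hh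
      simp only [Set.mem_preimage, SetLike.mem_coe]
      convert this using 1
      simp)
    refine (mem_bigCone_iff hH).2 ⟨_, he', ?_⟩
    simpa using he
  · refine Set.Subset.antisymm (closure_minimal (fun e he => ?_) isClosed_closure)
      (closure_mono hsub)
    have hc : Continuous fun t : ℝ => e + t • h := continuous_const.add (Continuous.smul (f := fun t : ℝ => t) (g := fun _ => h) continuous_id continuous_const)
    refine mem_closure_of_tendsto (b := nhdsWithin (0 : ℝ) (Set.Ioi 0)) (f := fun t : ℝ => e + t • h)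
      ((hc.tendsto' 0 e (by simp)).mono_left nhdsWithin_le_nhds) ?_
    refine eventually_nhdsWithin_of_forall fun t ht => ?_
    exact (mem_bigCone_iff hH).2
      ⟨t • h, (NumR.ampleCone k X).smul_mem ht hh, by simpa using he⟩

end Groth.Agent.Pos60
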