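import Groth.Agent.Crv77.LinSerMap
import Groth.Agent.Amp73.QA
import Groth.Agent.Amp73.Powers
import Groth.Agent.Amp73.CounitEpi
import Groth.Agent.H98Pos.Fibre
import Groth.Agent.LimTop61.SteinFinite
import Groth.Agent.Stein58.SteinFactor
import Groth.Agent.Stein58.PushforwardStructure
import Groth.Agent.EGA73.VeryAmplePnAmple
import Groth.Agent.Curves2.ProjLineProper
import Groth.Agent.NefVan72.Basic
import Groth.Prelude.Def_ClSub2
import Groth.Prelude.Def_Twist2

/-!
Semiample invertible modules: morphisms to projective space and descent along fibre spaces.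
-/

set_option autoImplicit false
set_option backward.isDefEq.respectTransparency.types false

universe u

open CategoryTheory CategoryTheory.Limits AlgebraicGeometry TopologicalSpace

noncomputable section

namespace Groth.Agent.Pos60.Semiample

open Var76.LineBundle Var76.ZeroScheme Amp73

variable {X Y : Scheme.{u}}

theorem genLocus_congr {L : X.Modules} {s t : Coh.structureModule X ⟶ L} (h : val L s ⊤ = val L t ⊤) :
    CohB1.genLocus L s = CohB1.genLocus L t := by
  have hv : ∀ U : X.Opens, val L s U = val L t U := fun U => by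
    rw [← res_val L s (le_top : U ≤ ⊤), h, res_val]
  refine le_antisymm ?_ ?_
  all_goals rw [← isFrame_iff_le_genLocus]
  · rw [← hv]
    exact (isFrame_iff_le_genLocus _ _).2 le_rfl
  · rw [hv]
    exact (isFrame_iff_le_genLocus _ _).2 le_rfl

/-- A globally generated invertible module has a generating section at every point. -/
theorem exists_gen_at [CompactSpace X] {M : X.Modules} (hM : PicF.IsInvertible M)
    (h : Curv2.IsGloballyGenerated M) (y : X) :
    ∃ t : Γ(M, ⊤), y ∈ CohB1.genLocus M (Var76.Frames.ofSection M t) := by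
  obtain ⟨x, hx, hyx⟩ := Crv77.exists_isClosed_specializes y
  obtain ⟨t, ht⟩ := Crv77.exists_gen_of_isGloballyGenerated hM h hx
  exact ⟨t, hyx.mem_open (CohB1.genLocus M (Var76.Frames.ofSection M t)).2 ht⟩

/-- A globally generated invertible module is the pullback of `O(1)` by a morphism to projective space. -/
theorem exists_hom_projSpace [CompactSpace X] {R : Type u} [CommRing R] (q : X ⟶ Spec (CommRingCat.of R))
    {M : X.Modules} (hM : PicF.IsInvertible M) (h : Curv2.IsGloballyGenerated M) :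
    ∃ (n : ℕ) (f : X ⟶ CohB1.ProjSpace n R), f ≫ CohB1.ProjSpace.toSpec n R = q ∧
      Nonempty ((Scheme.Modules.pullback f).obj (Twist.twistProjSpace n R 1) ≅ M) := by
  classical
  choose t ht using exists_gen_at hM h
  obtain ⟨S, hS⟩ := isCompact_univ.elim_finite_subcover
    (fun x => ((CohB1.genLocus M (Var76.Frames.ofSection M (t x)) : X.Opens) : Set X))
    (fun x => (CohB1.genLocus M (Var76.Frames.ofSection M (t x))).2)
    (fun x _ => Set.mem_iUnion.2 ⟨x, ht x⟩)
  let u : Fin (S.card + 1) → ProjUP.Γm M := Fin.cons 0 fun k => t (S.equivFin.symm k).1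
  obtain ⟨f, τ, hf, -⟩ := Crv77.exists_morphism_of_sections q M hM S.card u fun x => by
    obtain ⟨z, hz⟩ := Set.mem_iUnion.1 (hS (Set.mem_univ x))
    obtain ⟨hzS, hxz⟩ := Set.mem_iUnion.1 hz
    refine ⟨Fin.succ (S.equivFin ⟨z, hzS⟩), ?_⟩
    simpa [u] using hxz
  exact ⟨_, f, hf, ⟨τ⟩⟩

variable (φ : X ⟶ Y)

/-- Pullback along a fibre space reflects isomorphism of invertible modules. -/
theorem nonempty_iso_of_pullback (hφ : IsIso (ClSub.unitToPush φ)) {L₁ L₂ : Y.Modules}
    (h₁ : PicF.IsInvertible L₁) (h₂ : PicF.IsInvertible L₂)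
    (e : (Scheme.Modules.pullback φ).obj L₁ ≅ (Scheme.Modules.pullback φ).obj L₂) :
    Nonempty (L₁ ≅ L₂) := by
  haveI := H98Pos.isIso_unit_of_isInvertible φ hφ h₁
  haveI := H98Pos.isIso_unit_of_isInvertible φ hφ h₂
  exact ⟨asIso ((Scheme.Modules.pullbackPushforwardAdjunction φ).unit.app L₁) ≪≫
    (Scheme.Modules.pushforward φ).mapIso e ≪≫
    (asIso ((Scheme.Modules.pullbackPushforwardAdjunction φ).unit.app L₂)).symm⟩

/-- A generated module some power of which comes from the base of a fibre space comes from the base. -/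
theorem exists_descend [Surjective φ] (hφ : IsIso (ClSub.unitToPush φ)) {M : X.Modules}
    (hM : PicF.IsInvertible M)
    (hgen : ∀ x : X, ∃ t : Γ(M, ⊤), x ∈ CohB1.genLocus M (Var76.Frames.ofSection M t))
    {k : ℕ} (hk : 0 < k) {B : Y.Modules} (hB : PicF.IsInvertible B)
    (e : CohB1.tensorPow M k ≅ (Scheme.Modules.pullback φ).obj B) :
    ∃ A : Y.Modules, PicF.IsInvertible A ∧ Nonempty ((Scheme.Modules.pullback φ).obj A ≅ M) ∧
      Nonempty (CohB1.tensorPow A k ≅ B) := by
  let adj := Scheme.Modules.pullbackPushforwardAdjunction φ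
  let A := (Scheme.Modules.pushforward φ).obj M
  have key : ∀ y : Y, ∃ (U : Y.Opens) (a : Γ(A, U)),
      y ∈ U ∧ IsFrame A U a ∧ IsFrame M (φ ⁻¹ᵁ U) a := by
    intro y
    obtain ⟨x, rfl⟩ := φ.surjective y
    obtain ⟨t, ht⟩ := hgen x
    let s := Var76.Frames.ofSection M t
    let σ := SecTwist.powHom s k ≫ e.hom
    have hu : IsIso (adj.unit.app B) := H98Pos.isIso_unit_of_isInvertible φ hφ hB
    have hb : Function.Bijective ((adj.unit.app B).app ⊤) :=
      (ConcreteCategory.isIso_iff_bijective _).1 (Scheme.Modules.Hom.isIso_iff_isIso_app.1 hu ⊤)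
    obtain ⟨b, hb'⟩ : ∃ b : Γ(B, ⊤), pullS φ B ⊤ b = val _ σ ⊤ := hb.2 (val _ σ ⊤)
    let U := CohB1.genLocus B (Var76.Frames.ofSection B b)
    have hU : φ ⁻¹ᵁ U = CohB1.genLocus M s := by
      rw [← genLocus_powHom hM s k hk, ← genLocus_comp_iso _ e.hom,
        ← genLocus_pullHom φ hB (Var76.Frames.ofSection B b)]
      refine genLocus_congr ?_
      refine ((val_pullHom φ _ ⊤).trans ?_).trans hb'
      exact congrArg (pullS φ B ⊤) ((Var76.Frames.val_ofSection B b ⊤).trans (Amp73.res_self _ _))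
    have hfr : IsFrame M (φ ⁻¹ᵁ U) (val M s (φ ⁻¹ᵁ U)) :=
      (isFrame_iff_le_genLocus s _).2 hU.le
    refine ⟨U, val M s (φ ⁻¹ᵁ U), show x ∈ φ ⁻¹ᵁ U from hU.ge ht, fun V hV => ?_, hfr⟩
    exact (hfr (φ ⁻¹ᵁ V) (φ.preimage_mono hV)).comp (H98Pos.app_bijective φ hφ V)
  have hA : PicF.IsInvertible A := Mero90.isInvertible_of_frames fun y => by
    obtain ⟨U, a, hy, ha, -⟩ := key y
    exact ⟨U, hy, a, ha⟩
  have hc : IsIso (adj.counit.app M) := by
    refine isIso_of_frames _ fun x => ?_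
    obtain ⟨U, a, hy, ha, ha'⟩ := key (φ x)
    refine ⟨φ ⁻¹ᵁ U, pullS φ A U a, hy, isFrame_pullS φ hA ha, ?_⟩
    rw [counit_app_pullS]
    exact ha'
  let c : (Scheme.Modules.pullback φ).obj A ≅ M := @asIso _ _ _ _ (adj.counit.app M) hc
  exact ⟨A, hA, ⟨c⟩, nonempty_iso_of_pullback φ hφ (EGA73.isInvertible_tensorPow hA k) hB
    (pullPowIso φ hA k ≪≫ powIso c k ≪≫ e)⟩

end Groth.Agent.Pos60.Semiample

section

universe v

namespace Groth.Agent.Pos60.Semiample

/-- The fibre space of a semiample invertible module. -/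
theorem exists_fibreSpace {k : Type u} [Field k] (X : Scheme.{u}) [X.Over (Spec (CommRingCat.of k))]
    [IsIntegral X] [IsProper (X ↘ Spec (CommRingCat.of k))] {L : X.Modules} (hL : PicF.IsInvertible L)
    (hsa : ∃ m : ℕ, 0 < m ∧ Curv2.IsGloballyGenerated (CohB1.tensorPow L m)) :
    ∃ (Y : Scheme.{u}) (g : Y ⟶ Spec (CommRingCat.of k)) (HY : Y.Modules) (φ : X ⟶ Y),
      IsIntegral Y ∧ IsProper g ∧ CohB1.IsAmple HY ∧
      φ ≫ g = X ↘ Spec (CommRingCat.of k) ∧ Surjective φ ∧ IsIso (ClSub.unitToPush φ) ∧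
      ∀ m : ℕ, 0 < m → Curv2.IsGloballyGenerated (CohB1.tensorPow L m) →
        ∃ A : Y.Modules, CohB1.IsAmple A ∧ Nonempty ((Scheme.Modules.pullback φ).obj A ≅ CohB1.tensorPow L m) := by
  obtain ⟨m₀, hm₀, hgg⟩ := hsa
  have hqc : CompactSpace X := QuasiCompact.compactSpace_of_compactSpace (X ↘ Spec (CommRingCat.of k))
  have hM₀ : PicF.IsInvertible (CohB1.tensorPow L m₀) := EGA73.isInvertible_tensorPow hL m₀
  obtain ⟨n, f, hf, ⟨τ⟩⟩ := exists_hom_projSpace (X ↘ Spec (CommRingCat.of k)) hM₀ hgg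
  let p := CohB1.ProjSpace.toSpec n k
  have hp : IsProper p := Curves2.ProjLine.isProper_toSpec k n
  have : IsProper (f ≫ p) := by rw [hf]; infer_instance
  have : IsProper f := IsProper.of_comp f p
  have : IsLocallyNoetherian (CohB1.ProjSpace n k) := LocallyOfFiniteType.isLocallyNoetherian p
  let φ := f.toNormalization
  let π := f.fromNormalization
  have hfin : IsFinite π := LimTop61.isFinite_fromNormalization f
  have : IsProper (π ≫ p) := inferInstance
  have : IsProper φ := Stein58.isProper_toNormalization f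
  have hsur : Surjective φ := inferInstance
  have hφ : IsIso (ClSub.unitToPush φ) := by
    rw [Scheme.Modules.Hom.isIso_iff_isIso_app]
    intro V
    rw [ConcreteCategory.isIso_iff_bijective]
    haveI := Stein58.isIso_toNormalization_app f V
    exact ConcreteCategory.bijective_of_isIso (φ.app V)
  have hO : CohB1.IsAmple (Twist.twistProjSpace n k 1) := EGA73.VeryAmplePnAmple.isAmple_twistProjSpace k n
  let A₀ := (Scheme.Modules.pullback π).obj (Twist.twistProjSpace n k 1)
  have hA₀ : CohB1.IsAmple A₀ := Amp73.isAmple_pullback π (Amp73.isQuasiAffine_of_isAffineHom π) hO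
  let e₀ : (Scheme.Modules.pullback φ).obj A₀ ≅ CohB1.tensorPow L m₀ :=
    (Scheme.Modules.pullbackComp φ π).app _ ≪≫
      (Scheme.Modules.pullbackCongr f.toNormalization_fromNormalization).app _ ≪≫ τ
  refine ⟨f.normalization, π ≫ p, A₀, φ, inferInstance, inferInstance, hA₀, ?_, hsur, hφ, fun m hm hgm => ?_⟩
  · rw [← Category.assoc, Scheme.Hom.toNormalization_fromNormalization, hf]
  let e : CohB1.tensorPow (CohB1.tensorPow L m) m₀ ≅
      (Scheme.Modules.pullback φ).obj (CohB1.tensorPow A₀ m) :=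
    Amp73.powMul L m m₀ ≪≫ eqToIso (congrArg (CohB1.tensorPow L) (mul_comm m m₀)) ≪≫
      (Amp73.powMul L m₀ m).symm ≪≫ Amp73.powIso e₀.symm m ≪≫ (Amp73.pullPowIso φ hA₀.1 m).symm
  obtain ⟨A, hA, hAM, ⟨eA⟩⟩ := exists_descend φ hφ (EGA73.isInvertible_tensorPow hL m)
    (exists_gen_at (EGA73.isInvertible_tensorPow hL m) hgm) hm₀ (EGA73.isInvertible_tensorPow hA₀.1 m) e
  refine ⟨A, (Amp73.isAmple_tensorPow_iff hA hm₀).2 ?_, hAM⟩
  exact Amp73.isAmple_of_iso eA.symm ((Amp73.isAmple_tensorPow_iff hA₀.1 hm).1 hA₀)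

end Groth.Agent.Pos60.Semiample

end
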